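import Mathlib

/-!
Matrices that raise a level function by at least `k`, and the descending central series of the
unitriangular group they define.
-/

set_option autoImplicit false

namespace Cfsg.Agent.ChevStructure.Level


open scoped commutatorElement

variable {ι : Type*} {F : Type*} [Field F] (ℓ : ι → ℕ)

/-- The matrix `M` raises the level `ℓ` by at least `k`: an entry `M i j` can be nonzero only if
`ℓ j + k ≤ ℓ i`. -/
def Raises (k : ℕ) (M : Matrix ι ι F) : Prop := ∀ i j, M i j ≠ 0 → ℓ j + k ≤ ℓ i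

variable {ℓ}

theorem Raises.mono {k k' : ℕ} {M : Matrix ι ι F} (h : Raises ℓ k M) (hk : k' ≤ k) :
    Raises ℓ k' M := fun i j hij => (Nat.add_le_add_left hk _).trans (h i j hij)

theorem raises_zero (k : ℕ) : Raises ℓ k (0 : Matrix ι ι F) := fun _ _ h => absurd rfl h

theorem Raises.add {k : ℕ} {M N : Matrix ι ι F} (hM : Raises ℓ k M) (hN : Raises ℓ k N) :
    Raises ℓ k (M + N) := by
  intro i j h
  by_cases h1 : M i j = 0
  · by_cases h2 : N i j = 0
    · exact absurd (by simp [h1, h2]) h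
    · exact hN i j h2
  · exact hM i j h1

theorem Raises.neg {k : ℕ} {M : Matrix ι ι F} (hM : Raises ℓ k M) : Raises ℓ k (-M) := by
  intro i j h
  exact hM i j (by simpa using h)

theorem Raises.sub {k : ℕ} {M N : Matrix ι ι F} (hM : Raises ℓ k M) (hN : Raises ℓ k N) :
    Raises ℓ k (M - N) := by
  rw [sub_eq_add_neg]
  exact hM.add hN.neg

theorem Raises.sum {k : ℕ} {α : Type*} (s : Finset α) (M : α → Matrix ι ι F)
    (h : ∀ a ∈ s, Raises ℓ k (M a)) : Raises ℓ k (∑ a ∈ s, M a) := by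
  classical
  induction s using Finset.induction_on with
  | empty => simpa using raises_zero k
  | insert a s ha ih =>
    rw [Finset.sum_insert ha]
    exact (h a (Finset.mem_insert_self a s)).add
      (ih fun b hb => h b (Finset.mem_insert_of_mem hb))

theorem raises_one [DecidableEq ι] : Raises ℓ 0 (1 : Matrix ι ι F) := by
  intro i j h
  by_cases hij : i = j
  · subst hij; simp
  · exact absurd (Matrix.one_apply_ne hij) h

theorem Raises.mul [Fintype ι] {k l : ℕ} {M N : Matrix ι ι F} (hM : Raises ℓ k M)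
    (hN : Raises ℓ l N) : Raises ℓ (k + l) (M * N) := by
  intro i j h
  rw [Matrix.mul_apply] at h
  obtain ⟨m, -, hm⟩ := Finset.exists_ne_zero_of_sum_ne_zero h
  have h1 := hM i m (left_ne_zero_of_mul hm)
  have h2 := hN m j (right_ne_zero_of_mul hm)
  omega

theorem Raises.pow [Fintype ι] [DecidableEq ι] {k : ℕ} {M : Matrix ι ι F} (hM : Raises ℓ k M)
    (n : ℕ) : Raises ℓ (n * k) (M ^ n) := by
  induction n with
  | zero => simpa using raises_one
  | succ n ih =>
    rw [pow_succ, Nat.succ_mul]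
    exact ih.mul hM

theorem Raises.eq_zero {k n : ℕ} {M : Matrix ι ι F} (hM : Raises ℓ k M) (hn : ∀ i, ℓ i < n)
    (hk : n ≤ k) : M = 0 := by
  ext i j
  by_contra h
  have h1 := hM i j h
  have h2 := hn i
  omega

variable [Fintype ι] [DecidableEq ι]

/-- If `g - 1` strictly raises a bounded level, so does `g⁻¹ - 1`. -/
theorem Raises.inv_sub_one {n k : ℕ} (hn : ∀ i, ℓ i < n) (g : GL ι F)
    (hg : Raises ℓ (k + 1) ((g : Matrix ι ι F) - 1)) :
    Raises ℓ (k + 1) (((g⁻¹ : GL ι F) : Matrix ι ι F) - 1) := by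
  set x : Matrix ι ι F := 1 - (g : Matrix ι ι F) with hx
  have hxr : Raises ℓ (k + 1) x := by
    have := hg.neg
    rwa [neg_sub] at this
  have hxn : x ^ n = 0 := (hxr.pow n).eq_zero hn (by nlinarith)
  have hgx : (g : Matrix ι ι F) = 1 - x := by rw [hx]; abel
  have hsum : (∑ i ∈ Finset.range n, x ^ i) * (g : Matrix ι ι F) = 1 := by
    rw [hgx, geom_sum_mul_neg, hxn, sub_zero]
  have hginv : ((g⁻¹ : GL ι F) : Matrix ι ι F) = ∑ i ∈ Finset.range n, x ^ i := by
    have h1 : (g : Matrix ι ι F) * ((g⁻¹ : GL ι F) : Matrix ι ι F) = 1 := by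
      rw [← Units.val_mul, mul_inv_cancel, Units.val_one]
    calc ((g⁻¹ : GL ι F) : Matrix ι ι F)
        = ((∑ i ∈ Finset.range n, x ^ i) * (g : Matrix ι ι F)) *
            ((g⁻¹ : GL ι F) : Matrix ι ι F) := by rw [hsum, one_mul]
      _ = ∑ i ∈ Finset.range n, x ^ i := by rw [mul_assoc, h1, mul_one]
  have h0 : Raises ℓ 0 ((g⁻¹ : GL ι F) : Matrix ι ι F) := by
    rw [hginv]
    exact Raises.sum _ _ fun i _ => (hxr.pow i).mono (Nat.zero_le _)
  have h2 : ((g⁻¹ : GL ι F) : Matrix ι ι F) - 1 = ((g⁻¹ : GL ι F) : Matrix ι ι F) * x := by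
    rw [hx, mul_sub, mul_one, ← Units.val_mul, inv_mul_cancel, Units.val_one]
  rw [h2]
  simpa using h0.mul hxr

variable (ℓ F)

/-- The group of all invertible matrices `g` such that `g - 1` raises the level `ℓ < n` by at least
`k + 1`. -/
def unip (n : ℕ) (hn : ∀ i, ℓ i < n) (k : ℕ) : Subgroup (GL ι F) where
  carrier := {g | Raises ℓ (k + 1) ((g : Matrix ι ι F) - 1)}
  one_mem' := by simpa using raises_zero (k + 1)
  mul_mem' := by
    intro g h hg hh
    have e : ((g * h : GL ι F) : Matrix ι ι F) - 1 =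
        ((g : Matrix ι ι F) - 1) * ((h : Matrix ι ι F) - 1) + ((g : Matrix ι ι F) - 1)
          + ((h : Matrix ι ι F) - 1) := by
      rw [Units.val_mul]; noncomm_ring
    have h1 : Raises ℓ (k + 1) (((g : Matrix ι ι F) - 1) * ((h : Matrix ι ι F) - 1)) :=
      (Raises.mul hg hh).mono (Nat.le_add_left _ _)
    show Raises ℓ (k + 1) _
    rw [e]
    exact (h1.add hg).add hh
  inv_mem' := by
    intro g hg
    exact Raises.inv_sub_one hn g hg

variable {ℓ F}

theorem mem_unip {n : ℕ} {hn : ∀ i, ℓ i < n} {k : ℕ} {g : GL ι F} :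
    g ∈ unip F ℓ n hn k ↔ Raises ℓ (k + 1) ((g : Matrix ι ι F) - 1) := Iff.rfl

theorem raises_zero_of_mem_unip {n : ℕ} {hn : ∀ i, ℓ i < n} {k : ℕ} {g : GL ι F}
    (hg : g ∈ unip F ℓ n hn k) : Raises ℓ 0 (g : Matrix ι ι F) := by
  have h1 : Raises ℓ 0 ((g : Matrix ι ι F) - 1) := Raises.mono (mem_unip.1 hg) (Nat.zero_le _)
  have h2 := h1.add raises_one
  rwa [sub_add_cancel] at h2

/-- The commutator of `unip k` and `unip 0` lies in `unip (k + 1)`. -/
theorem commutator_mem_unip {n : ℕ} {hn : ∀ i, ℓ i < n} {k l : ℕ} {g h : GL ι F}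
    (hg : g ∈ unip F ℓ n hn k) (hh : h ∈ unip F ℓ n hn l) :
    ⁅g, h⁆ ∈ unip F ℓ n hn (k + l + 1) := by
  rw [mem_unip]
  have e : ((⁅g, h⁆ : GL ι F) : Matrix ι ι F) - 1 =
      (((g : Matrix ι ι F) - 1) * ((h : Matrix ι ι F) - 1)
        - ((h : Matrix ι ι F) - 1) * ((g : Matrix ι ι F) - 1)) *
        (((h * g)⁻¹ : GL ι F) : Matrix ι ι F) := by
    have e1 : ((g : Matrix ι ι F) - 1) * ((h : Matrix ι ι F) - 1)
        - ((h : Matrix ι ι F) - 1) * ((g : Matrix ι ι F) - 1) =
        ((g * h : GL ι F) : Matrix ι ι F) - ((h * g : GL ι F) : Matrix ι ι F) := by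
      rw [Units.val_mul, Units.val_mul]; noncomm_ring
    rw [e1, sub_mul, ← Units.val_mul, ← Units.val_mul, mul_inv_cancel, Units.val_one,
      commutatorElement_def, _root_.mul_inv_rev]
    simp only [mul_assoc]
  rw [e]
  have h1 : Raises ℓ ((k + 1) + (l + 1)) (((g : Matrix ι ι F) - 1) * ((h : Matrix ι ι F) - 1)) :=
    Raises.mul (mem_unip.1 hg) (mem_unip.1 hh)
  have h2 : Raises ℓ ((k + 1) + (l + 1)) (((h : Matrix ι ι F) - 1) * ((g : Matrix ι ι F) - 1)) :=
    (Raises.mul (mem_unip.1 hh) (mem_unip.1 hg)).mono (by omega)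
  have hg0 : g ∈ unip F ℓ n hn 0 := by
    rw [mem_unip]; exact (mem_unip.1 hg).mono (by omega)
  have hh0 : h ∈ unip F ℓ n hn 0 := by
    rw [mem_unip]; exact (mem_unip.1 hh).mono (by omega)
  have h3 : Raises ℓ 0 (((h * g)⁻¹ : GL ι F) : Matrix ι ι F) :=
    raises_zero_of_mem_unip (inv_mem (mul_mem hh0 hg0))
  exact ((h1.sub h2).mul h3).mono (by omega)

/-- A subgroup of `unip 0` is nilpotent. -/
theorem isNilpotent_of_le_unip {n : ℕ} (hn : ∀ i, ℓ i < n) (H : Subgroup (GL ι F))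
    (hH : H ≤ unip F ℓ n hn 0) : Group.IsNilpotent H := by
  rw [Subgroup.nilpotent_iff_finite_descending_central_series]
  refine ⟨n, fun k => (unip F ℓ n hn k).subgroupOf H, ⟨?_, ?_⟩, ?_⟩
  · rw [Subgroup.subgroupOf_eq_top]
    exact hH
  · intro x k hx g
    rw [Subgroup.mem_subgroupOf] at hx ⊢
    exact commutator_mem_unip hx (hH g.2)
  · rw [eq_bot_iff]
    intro x hx
    rw [Subgroup.mem_subgroupOf, mem_unip] at hx
    have h0 := Raises.eq_zero hx hn (Nat.le_succ n)
    rw [Subgroup.mem_bot]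
    apply Subtype.ext
    apply Units.ext
    rw [sub_eq_zero] at h0
    rw [h0]; rfl

/-- Elements of `unip 0` are unipotent matrices. -/
theorem sub_one_pow_eq_zero {n : ℕ} {hn : ∀ i, ℓ i < n} {g : GL ι F}
    (hg : g ∈ unip F ℓ n hn 0) {m : ℕ} (hm : n ≤ m) : ((g : Matrix ι ι F) - 1) ^ m = 0 := by
  rw [mem_unip] at hg
  exact (hg.pow m).eq_zero hn (by omega)

end Cfsg.Agent.ChevStructure.Level
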