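import Cfsg.Prelude.Def_ChevStructure
import Cfsg.Prelude.Def_ChevG2
import Cfsg.Prelude.Def_ChevB2
import Cfsg.Prelude.Def_ChevD4
import Cfsg.Prelude.Def_ChevF4
import Cfsg.Prelude.Def_ChevE6
import Cfsg.Prelude.Def_ChevE7
import Cfsg.Prelude.Def_ChevE8
import Cfsg.Agent.ChevStructure.Level

/-!
The positive root elements of the tabulated Chevalley groups are strictly triangular for the level
"index of the root (negative roots below the Cartan part, positive roots above it)".
-/

set_option autoImplicit false

namespace Cfsg.Agent.ChevStructure.PosUnip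

open Cfsg Cfsg.Lie Cfsg.Agent.ChevStructure.Level

/-- Boolean check on the tables: a positive root has index `≥ nroots / 2`, its negative has index
`< nroots / 2`, and its chains increase the index. -/
def checkPos (D : ChevalleyDatum) : Bool :=
  (List.range D.nroots).all fun r =>
    !(decide (D.IsPosRoot r)) ||
      (decide (D.nroots / 2 ≤ r) && decide (D.negIdx.getD r 0 < D.nroots / 2) &&
        (D.chain.getD r #[]).toList.all fun e => e.2.toList.all fun q => decide (e.1 < q.1))

theorem checkG2 : checkPos chevG2 = true := by decide +kernel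
theorem checkB2 : checkPos chevB2 = true := by decide +kernel
theorem checkD4 : checkPos chevD4 = true := by decide +kernel
theorem checkF4 : checkPos chevF4 = true := by decide +kernel
theorem checkE6 : checkPos chevE6 = true := by decide +kernel
theorem checkE7 : checkPos chevE7 = true := by decide +kernel
theorem checkE8 : checkPos chevE8 = true := by decide +kernel

theorem checkPos_of_mem (D : ChevalleyDatum)
    (hD : D ∈ [chevG2, chevB2, chevD4, chevF4, chevE6, chevE7, chevE8]) : checkPos D = true := by
  simp only [List.mem_cons, List.not_mem_nil, or_false] at hD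
  rcases hD with h | h | h | h | h | h | h <;> rw [h]
  · exact checkG2
  · exact checkB2
  · exact checkD4
  · exact checkF4
  · exact checkE6
  · exact checkE7
  · exact checkE8

theorem rank_pos_of_mem (D : ChevalleyDatum)
    (hD : D ∈ [chevG2, chevB2, chevD4, chevF4, chevE6, chevE7, chevE8]) : 0 < D.rank := by
  simp only [List.mem_cons, List.not_mem_nil, or_false] at hD
  rcases hD with h | h | h | h | h | h | h <;> rw [h] <;> decide

theorem check_spec {D : ChevalleyDatum} (h : checkPos D = true) {r : ℕ} (hr : D.IsPosRoot r) :
    D.nroots / 2 ≤ r ∧ D.negIdx.getD r 0 < D.nroots / 2 ∧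
      ∀ e ∈ (D.chain.getD r #[]).toList, ∀ q ∈ e.2.toList, e.1 < q.1 := by
  have h0 := (List.all_eq_true.1 h) r (List.mem_range.2 hr.1)
  rw [decide_eq_true hr, Bool.not_true, Bool.false_or, Bool.and_eq_true, Bool.and_eq_true,
    decide_eq_true_eq, decide_eq_true_eq] at h0
  refine ⟨h0.1.1, h0.1.2, fun e he q hq => ?_⟩
  have h1 := (List.all_eq_true.1 h0.2) e he
  have h2 := (List.all_eq_true.1 h1) q hq
  exact of_decide_eq_true h2

/-- The definition of `chainCoeff`, as a theorem. -/
theorem chainCoeff_def (D : ChevalleyDatum) (r s u : ℕ) : D.chainCoeff r s u =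
    (((D.chain.getD r #[]).toList.filter (fun e => e.1 = s)).flatMap fun e =>
      ((e.2.toList.zipIdx).filter (fun q => q.1.1 = u)).map fun q => (q.2 + 1, q.1.2)) := rfl

theorem x_of_lt {D : ChevalleyDatum} {F : Type*} [Field F] {r : ℕ} (h : r < D.nroots) (t : F) :
    D.x F r t = D.xMat F ⟨r, h⟩ t := dif_pos h

theorem x_of_not_lt {D : ChevalleyDatum} {F : Type*} [Field F] {r : ℕ} (h : ¬ r < D.nroots)
    (t : F) : D.x F r t = 1 := dif_neg h

/-- If all the chains of `r` increase the index, a nonempty `chainCoeff r s u` forces `s < u`. -/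
theorem lt_of_chainCoeff_ne_nil {D : ChevalleyDatum} {r s u : ℕ}
    (h : ∀ e ∈ (D.chain.getD r #[]).toList, ∀ q ∈ e.2.toList, e.1 < q.1)
    (hne : D.chainCoeff r s u ≠ []) : s < u := by
  obtain ⟨km, hkm⟩ := List.exists_mem_of_ne_nil _ hne
  rw [chainCoeff_def, List.mem_flatMap] at hkm
  obtain ⟨e, he, hkm⟩ := hkm
  rw [List.mem_filter] at he
  rw [List.mem_map] at hkm
  obtain ⟨q, hq, -⟩ := hkm
  rw [List.mem_filter] at hq
  have h1 := h e he.1 q.1 (List.fst_mem_of_mem_zipIdx hq.1)
  have h2 : e.1 = s := by simpa using he.2
  have h3 : q.1.1 = u := by simpa using hq.2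
  omega

/-- The level of a basis vector. -/
def lev (D : ChevalleyDatum) : D.Idx → ℕ
  | Sum.inl _ => D.nroots / 2
  | Sum.inr s => if s.val < D.nroots / 2 then s.val else s.val + 1

theorem lev_lt (D : ChevalleyDatum) : ∀ i, lev D i < D.nroots + 1 := by
  rintro (i | s)
  · show D.nroots / 2 < D.nroots + 1
    omega
  · show (if s.val < D.nroots / 2 then s.val else s.val + 1) < D.nroots + 1
    have := s.2
    split_ifs <;> omega

theorem raises_xMat_sub_one {D : ChevalleyDatum} {F : Type*} [Field F] {r : ℕ}
    (hr : r < D.nroots) (h1 : D.nroots / 2 ≤ r) (h2 : D.negIdx.getD r 0 < D.nroots / 2)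
    (h3 : ∀ e ∈ (D.chain.getD r #[]).toList, ∀ q ∈ e.2.toList, e.1 < q.1) (t : F) :
    Raises (lev D) 1 (D.xMat F ⟨r, hr⟩ t - 1) := by
  intro row col hne
  rw [Matrix.sub_apply] at hne
  have hxm : D.xMat F ⟨r, hr⟩ t row col ≠ (1 : Matrix D.Idx D.Idx F) row col :=
    fun h => hne (by rw [h, sub_self])
  clear hne
  rcases col with i | s
  · rcases row with i' | u
    · exfalso
      apply hxm
      show (if i' = i then (1 : F) else 0) = _
      rw [Matrix.one_apply]
      by_cases h : i' = i
      · rw [if_pos h, if_pos (by rw [h])]
      · rw [if_neg h, if_neg (fun h' => h (Sum.inl_injective h'))]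
    · show D.nroots / 2 + 1 ≤ (if u.val < D.nroots / 2 then u.val else u.val + 1)
      by_cases hu : u = ⟨r, hr⟩
      · subst hu
        show D.nroots / 2 + 1 ≤ (if r < D.nroots / 2 then r else r + 1)
        rw [if_neg (by omega)]
        omega
      · exfalso
        apply hxm
        show (if u = ⟨r, hr⟩ then _ else (0 : F)) = _
        rw [if_neg hu, Matrix.one_apply, if_neg (by simp)]
  · by_cases hs : s = ⟨r, hr⟩
    · exfalso
      apply hxm
      subst hs
      rcases row with i | u
      · show (if (⟨r, hr⟩ : Fin D.nroots) = ⟨r, hr⟩ then (0 : F) else _) = _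
        rw [if_pos rfl, Matrix.one_apply, if_neg (by simp)]
      · show (if (⟨r, hr⟩ : Fin D.nroots) = ⟨r, hr⟩ then (if u = ⟨r, hr⟩ then (1 : F) else 0)
          else _) = _
        rw [if_pos rfl, Matrix.one_apply]
        by_cases hu : u = ⟨r, hr⟩
        · rw [if_pos hu, if_pos (by rw [hu])]
        · rw [if_neg hu, if_neg (fun h' => hu (Sum.inr_injective h'))]
    · by_cases hs' : s.val = D.negIdx.getD r 0
      · rcases row with i | u
        · show (if s.val < D.nroots / 2 then s.val else s.val + 1) + 1 ≤ D.nroots / 2
          rw [if_pos (by omega)]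
          omega
        · show (if s.val < D.nroots / 2 then s.val else s.val + 1) + 1 ≤
            (if u.val < D.nroots / 2 then u.val else u.val + 1)
          by_cases hu : u = s
          · exfalso
            apply hxm
            show (if s = ⟨r, hr⟩ then (if u = ⟨r, hr⟩ then (1 : F) else 0)
              else if s.val = D.negIdx.getD r 0 then (if u = s then (1 : F) else _) else _) = _
            rw [if_neg hs, if_pos hs', if_pos hu, Matrix.one_apply, if_pos (by rw [hu])]
          · by_cases hu' : u = ⟨r, hr⟩
            · subst hu'
              show (if s.val < D.nroots / 2 then s.val else s.val + 1) + 1 ≤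
                (if r < D.nroots / 2 then r else r + 1)
              rw [if_pos (by omega), if_neg (by omega)]
              omega
            · exfalso
              apply hxm
              show (if s = ⟨r, hr⟩ then (if u = ⟨r, hr⟩ then (1 : F) else 0)
                else if s.val = D.negIdx.getD r 0 then
                  (if u = s then (1 : F) else if u = ⟨r, hr⟩ then -(t ^ 2) else 0) else _) = _
              rw [if_neg hs, if_pos hs', if_neg hu, if_neg hu', Matrix.one_apply,
                if_neg (fun h' => hu (Sum.inr_injective h'))]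
      · rcases row with i | u
        · exfalso
          apply hxm
          show (if s = ⟨r, hr⟩ then (0 : F) else if s.val = D.negIdx.getD r 0 then _ else (0 : F))
            = _
          rw [if_neg hs, if_neg hs', Matrix.one_apply, if_neg (by simp)]
        · show (if s.val < D.nroots / 2 then s.val else s.val + 1) + 1 ≤
            (if u.val < D.nroots / 2 then u.val else u.val + 1)
          have hne : D.chainCoeff r s.val u.val ≠ [] := by
            intro hnil
            apply hxm
            show (if s = ⟨r, hr⟩ then (if u = ⟨r, hr⟩ then (1 : F) else 0)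
                else if s.val = D.negIdx.getD r 0 then
                  (if u = s then (1 : F) else if u = ⟨r, hr⟩ then -(t ^ 2) else 0) else
                  (if u = s then (1 : F) else 0) +
                    ((D.chainCoeff r s.val u.val).map fun km => ((km.2 : ℤ) : F) * t ^ km.1).sum)
                    = _
            rw [if_neg hs, if_neg hs', hnil, List.map_nil, List.sum_nil, add_zero,
              Matrix.one_apply]
            by_cases hu : u = s
            · rw [if_pos hu, if_pos (by rw [hu])]
            · rw [if_neg hu, if_neg (fun h' => hu (Sum.inr_injective h'))]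
          have hlt := lt_of_chainCoeff_ne_nil h3 hne
          split_ifs <;> omega

/-- `U` is contained in the group of matrices that are unitriangular for the level `lev`. -/
theorem posUnipotent_le_unip {D : ChevalleyDatum} (hc : checkPos D = true) (F : Type*) [Field F] :
    D.posUnipotent F ≤ unip F (lev D) (D.nroots + 1) (lev_lt D) 0 := by
  refine (Subgroup.closure_le _).2 ?_
  rintro g ⟨r, t, hr, hg⟩
  obtain ⟨h1, h2, h3⟩ := check_spec hc hr
  show Raises (lev D) 1 ((g : Matrix D.Idx D.Idx F) - 1)
  rw [hg, x_of_lt hr.1]
  exact raises_xMat_sub_one hr.1 h1 h2 h3 t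

end Cfsg.Agent.ChevStructure.PosUnip
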